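import Mathlib

/-!
# Values of rational functions at field-valued points, generic points
-/

set_option autoImplicit false
set_option linter.style.haveILetI false
universe u

open CategoryTheory CategoryTheory.Limits AlgebraicGeometry Topology TopologicalSpace IsLocalRing

noncomputable section

namespace GeomQuotSepLib

variable {X Y Z : Scheme.{u}}

/-- The map on residue fields given by a field-valued point lying over `x`. -/
def ev (x : X) {Ω : CommRingCat.{u}} [IsLocalRing Ω] (hΩ : IsField Ω) (u : Spec Ω ⟶ X)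
    (hu : ∀ s, u s = x) : X.residueField x ⟶ Ω :=
  letI : Field Ω := hΩ.toField
  (X.residueFieldCongr (hu (closedPoint Ω)).symm).hom ≫ X.descResidueField (Scheme.stalkClosedPointTo u)

theorem ev_spec (x : X) {Ω : CommRingCat.{u}} [IsLocalRing Ω] (hΩ : IsField Ω) (u : Spec Ω ⟶ X)
    (hu : ∀ s, u s = x) : Spec.map (ev x hΩ u hu) ≫ X.fromSpecResidueField x = u := by
  letI : Field Ω := hΩ.toField
  simp only [ev, Spec.map_comp, Category.assoc, Scheme.residueFieldCongr_fromSpecResidueField]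
  exact Scheme.descResidueField_stalkClosedPointTo_fromSpecResidueField Ω X u

theorem ext_residueField (x : X) {Ω : CommRingCat.{u}} {φ ψ : X.residueField x ⟶ Ω}
    (h : Spec.map φ ≫ X.fromSpecResidueField x = Spec.map ψ ≫ X.fromSpecResidueField x) : φ = ψ :=
  Spec.map_injective ((cancel_mono _).mp h)

theorem isField_residueField (x : X) : IsField (X.residueField x) := Field.toIsField _

/-- The map `κ(x) → κ(ξ)` induced by a morphism sending `ξ` to `x`. -/
def evAt (h : Z ⟶ X) (ξ : Z) (x : X) (e : h ξ = x) : X.residueField x ⟶ Z.residueField ξ :=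
  (X.residueFieldCongr e.symm).hom ≫ h.residueFieldMap ξ

theorem evAt_spec (h : Z ⟶ X) (ξ : Z) (x : X) (e : h ξ = x) :
    Spec.map (evAt h ξ x e) ≫ X.fromSpecResidueField x = Z.fromSpecResidueField ξ ≫ h := by
  simp [evAt]

theorem evAt_comp {W : Scheme.{u}} (g : W ⟶ Z) (h : Z ⟶ X) (w : W) (ξ : Z) (x : X) (e₁ : g w = ξ) (e₂ : h ξ = x)
    (e : (g ≫ h) w = x) : evAt (g ≫ h) w x e = evAt h ξ x e₂ ≫ evAt g w ξ e₁ := by
  apply ext_residueField
  rw [Spec.map_comp, Category.assoc, evAt_spec, evAt_spec, reassoc_of% evAt_spec]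

theorem evAt_congr {h h' : Z ⟶ X} (eh : h = h') (ξ : Z) (x : X) (e : h ξ = x) (e' : h' ξ = x) :
    evAt h ξ x e = evAt h' ξ x e' := by
  subst eh; rfl

theorem evaluation_appLE (h : Z ⟶ X) (ξ : Z) (x : X) (e : h ξ = x) (U : X.Opens) (hx : x ∈ U) (W : Z.Opens)
    (hW : W ≤ h ⁻¹ᵁ U) (hξ : ξ ∈ W) (f : Γ(X, U)) :
    Z.evaluation W ξ hξ (h.appLE U W hW f) = evAt h ξ x e (X.evaluation U x hx f) := by
  subst e
  have : evAt h ξ (h ξ) rfl = h.residueFieldMap ξ := by simp [evAt]
  rw [this, Scheme.evaluation_naturality_apply]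
  show Z.residue ξ (Z.presheaf.germ W ξ hξ (Z.presheaf.map (homOfLE hW).op (h.app U f))) = _
  rw [Z.presheaf.germ_res_apply]
  rfl

theorem eq_of_specializes_of_mem_genericPoints {T : Type u} [TopologicalSpace T] [T0Space T] {x y : T}
    (hx : x ∈ genericPoints T) (h : y ⤳ x) : y = x := by
  have hsub : closure {x} ⊆ closure {y} :=
    closure_minimal (Set.singleton_subset_iff.mpr (specializes_iff_mem_closure.mp h)) isClosed_closure
  have := hx.2 isIrreducible_singleton.closure hsub
  exact (h.antisymm (specializes_iff_mem_closure.mpr (this (subset_closure rfl)))).eq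

theorem mem_genericPoints_of_forall {T : Type u} [TopologicalSpace T] [QuasiSober T] {x : T}
    (h : ∀ y, y ⤳ x → y = x) : x ∈ genericPoints T := by
  obtain ⟨Z, hZ, hxZ⟩ := exists_preirreducible {x} isIrreducible_singleton.isPreirreducible
  have hZi : Z ∈ irreducibleComponents T := ⟨⟨⟨x, hxZ.1 rfl⟩, hZ⟩, fun W hW hle => (hxZ.2 W hW.isPreirreducible hle).le⟩
  let g := genericPoints.ofComponent ⟨Z, hZi⟩
  have hg : IsGenericPoint g.1 Z := genericPoints.isGenericPoint_ofComponent ⟨Z, hZi⟩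
  rw [← h g.1 (hg.specializes (hxZ.1 rfl))]
  exact g.2

theorem mem_genericPoints_of_flat (h : Z ⟶ X) [Flat h] {ξ : Z} (hξ : ξ ∈ genericPoints Z) :
    h ξ ∈ genericPoints X := by
  refine mem_genericPoints_of_forall fun y hy => ?_
  obtain ⟨z, hz, rfl⟩ := Flat.generalizingMap h hy
  rw [eq_of_specializes_of_mem_genericPoints hξ hz]

theorem exists_genericPoint_mem {T : Type u} [TopologicalSpace T] [QuasiSober T] {W : Set T} (hW : IsOpen W)
    (hne : W.Nonempty) : ∃ ξ : genericPoints T, ξ.1 ∈ W := by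
  obtain ⟨z, hz⟩ := hne
  have hz' : z ∈ closure (genericPoints T) := by rw [genericPoints.closure]; trivial
  obtain ⟨ξ, h1, h2⟩ := mem_closure_iff.mp hz' W hW hz
  exact ⟨⟨ξ, h2⟩, h1⟩

/-- Two sections of a reduced scheme agreeing at all generic points are equal. -/
theorem eq_of_evaluation_eq [IsReduced Z] {W : Z.Opens} (f g : Γ(Z, W))
    (h : ∀ ξ : genericPoints Z, ∀ hξ : ξ.1 ∈ W, Z.evaluation W ξ.1 hξ f = Z.evaluation W ξ.1 hξ g) : f = g := by
  rw [← sub_eq_zero, ← basicOpen_eq_bot_iff]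
  by_contra hne
  obtain ⟨ξ, hξ⟩ := exists_genericPoint_mem (Z.basicOpen (f - g)).isOpen
    (Set.nonempty_iff_ne_empty.mpr fun he => hne (Opens.ext he))
  have hξW : ξ.1 ∈ W := Z.basicOpen_le (f - g) hξ
  refine (Scheme.evaluation_ne_zero_iff_mem_basicOpen Z ξ.1 hξW (f - g)).mpr hξ ?_
  rw [map_sub, h ξ hξW, sub_self]

theorem eq_genericPoint [IrreducibleSpace X] {x : X} (hx : x ∈ genericPoints X) : x = genericPoint X := by
  rw [genericPoints_eq_singleton] at hx
  exact hx

end GeomQuotSepLib
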