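import Groth.Prelude.Def_W4bk4git07Quot
import Groth.Agent.GeomQuotSepLib.Ev

/-!
# Invariant rational functions on a geometric quotient
-/

set_option autoImplicit false
set_option linter.style.haveILetI false
universe u

open CategoryTheory CategoryTheory.Limits MonoidalCategory CartesianMonoidalCategory AlgebraicGeometry Topology
open TopologicalSpace

noncomputable section

namespace GeomQuotSepLib

variable {X Z : Scheme.{u}} [IsIntegral X]

theorem genericPoint_mem {U : X.Opens} {x : X} (hx : x ∈ U) : genericPoint X ∈ U :=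
  ((genericPoint_spec X).specializes trivial).mem_open U.isOpen hx

theorem residue_genericPoint_injective : Function.Injective (X.residue (genericPoint X)) := by
  letI : Field (X.presheaf.stalk (genericPoint X)) := inferInstanceAs (Field X.functionField)
  exact RingHom.injective _

theorem evaluation_injective {U : X.Opens} (hU : genericPoint X ∈ U) :
    Function.Injective (X.evaluation U (genericPoint X) hU) := by
  intro f g h
  exact germ_injective_of_isIntegral X (genericPoint X) hU (residue_genericPoint_injective h)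

theorem evaluation_res {U V : X.Opens} (h : V ≤ U) (hV : genericPoint X ∈ V) (f : Γ(X, U)) :
    X.evaluation V (genericPoint X) hV (X.presheaf.map (homOfLE h).op f) =
      X.evaluation U (genericPoint X) (h hV) f := by
  show X.residue _ (X.presheaf.germ V _ hV (X.presheaf.map (homOfLE h).op f)) = _
  rw [X.presheaf.germ_res_apply]
  rfl

/-- A rational function is regular at `x`. -/
def Reg (l : X.residueField (genericPoint X)) (x : X) : Prop :=
  ∃ (U : X.Opens) (hx : x ∈ U) (f : Γ(X, U)), X.evaluation U (genericPoint X) (genericPoint_mem hx) f = l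

theorem isOpen_reg (l : X.residueField (genericPoint X)) : IsOpen {x | Reg l x} := by
  refine isOpen_iff_forall_mem_open.mpr ?_
  rintro x ⟨U, hx, f, hf⟩
  exact ⟨U, fun y hy => ⟨U, hy, f, hf⟩, U.isOpen, hx⟩

theorem reg_genericPoint (l : X.residueField (genericPoint X)) : Reg l (genericPoint X) := by
  obtain ⟨s, rfl⟩ := X.residue_surjective (genericPoint X) l
  obtain ⟨U, hU, f, rfl⟩ := X.presheaf.exists_germ_eq s
  exact ⟨U, hU, f, rfl⟩

theorem apply_eq_genericPoint (h : Z ⟶ X) [Flat h] (ξ : genericPoints Z) : h ξ.1 = genericPoint X :=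
  eq_genericPoint (mem_genericPoints_of_flat h ξ.2)

/-- The value of a rational function on `X` at a generic point of `Z`. -/
def genEv (h : Z ⟶ X) [Flat h] (ξ : genericPoints Z) :
    X.residueField (genericPoint X) ⟶ Z.residueField ξ.1 :=
  evAt h ξ.1 _ (apply_eq_genericPoint h ξ)

variable [IsReduced Z] (h₁ h₂ : Z ⟶ X) [Flat h₁] [Flat h₂]

theorem section_eq_of_genEv_eq {l : X.residueField (genericPoint X)}
    (hl : ∀ ξ, genEv h₁ ξ l = genEv h₂ ξ l)
    {U : X.Opens} (f : Γ(X, U)) (hU : genericPoint X ∈ U) (hf : X.evaluation U (genericPoint X) hU f = l)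
    {V : X.Opens} (g : Γ(X, V)) (hV : genericPoint X ∈ V) (hg : X.evaluation V (genericPoint X) hV g = l)
    {W : Z.Opens} (e₁ : W ≤ h₁ ⁻¹ᵁ U) (e₂ : W ≤ h₂ ⁻¹ᵁ V) : h₁.appLE U W e₁ f = h₂.appLE V W e₂ g := by
  refine eq_of_evaluation_eq _ _ fun ξ hξ => ?_
  rw [evaluation_appLE h₁ ξ.1 _ (apply_eq_genericPoint h₁ ξ) U hU W e₁ hξ,
    evaluation_appLE h₂ ξ.1 _ (apply_eq_genericPoint h₂ ξ) V hV W e₂ hξ, hf, hg]
  exact hl ξ

theorem reg_transfer {l : X.residueField (genericPoint X)} (hl : ∀ ξ, genEv h₁ ξ l = genEv h₂ ξ l) (p : Z)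
    (hr : Reg l (h₁ p)) : Reg l (h₂ p) := by
  obtain ⟨U, hpU, f, hf⟩ := hr
  obtain ⟨_, ⟨V, hV, rfl⟩, hpV, -⟩ :=
    X.isBasis_affineOpens.exists_subset_of_mem_open (Set.mem_univ (h₂ p)) isOpen_univ
  haveI : Nonempty V := ⟨⟨_, hpV⟩⟩
  have hηV : genericPoint X ∈ V := genericPoint_mem hpV
  have hηU : genericPoint X ∈ U := genericPoint_mem hpU
  haveI := functionField_isFractionRing_of_isAffineOpen X V hV
  obtain ⟨l', rfl⟩ := X.residue_surjective (genericPoint X) l
  obtain ⟨⟨a, b⟩, hab⟩ := IsLocalization.surj (nonZeroDivisors Γ(X, V)) (S := X.functionField) l'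
  have hab' : X.residue (genericPoint X) l' * X.evaluation V _ hηV b.1 = X.evaluation V _ hηV a := by
    have := congrArg (X.residue (genericPoint X)) hab
    rw [map_mul] at this
    exact this
  let W : Z.Opens := h₁ ⁻¹ᵁ U ⊓ h₂ ⁻¹ᵁ V
  have e₁ : W ≤ h₁ ⁻¹ᵁ U := inf_le_left
  have e₂ : W ≤ h₂ ⁻¹ᵁ V := inf_le_right
  have heq : h₂.appLE V W e₂ a = h₁.appLE U W e₁ f * h₂.appLE V W e₂ b.1 := by
    refine eq_of_evaluation_eq _ _ fun ξ hξ => ?_
    rw [map_mul, evaluation_appLE h₂ ξ.1 _ (apply_eq_genericPoint h₂ ξ) V hηV W e₂ hξ,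
      evaluation_appLE h₁ ξ.1 _ (apply_eq_genericPoint h₁ ξ) U hηU W e₁ hξ, hf,
      evaluation_appLE h₂ ξ.1 _ (apply_eq_genericPoint h₂ ξ) V hηV W e₂ hξ, ← hab', map_mul]
    exact congrArg (· * _) (hl ξ).symm
  have hpW : p ∈ W := ⟨hpU, hpV⟩
  have hgerm := congrArg (Z.presheaf.germ W p hpW) heq
  have hst : ∀ c : Γ(X, V), Z.presheaf.germ W p hpW (h₂.appLE V W e₂ c) =
      h₂.stalkMap p (X.presheaf.germ V (h₂ p) hpV c) := by
    intro c
    rw [Scheme.Hom.germ_stalkMap_apply]
    exact Z.presheaf.germ_res_apply (homOfLE e₂) p hpW _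
  rw [map_mul, hst, hst] at hgerm
  algebraize [(h₂.stalkMap p).hom]
  haveI : Module.FaithfullyFlat (X.presheaf.stalk (h₂ p)) (Z.presheaf.stalk p) :=
    @Module.FaithfullyFlat.of_flat_of_isLocalHom _ _ _ _ _ _ _ (Flat.stalkMap h₂ p) (h₂.toLRSHom.prop p)
  have hmem : X.presheaf.germ V (h₂ p) hpV a ∈ Ideal.span {X.presheaf.germ V (h₂ p) hpV b.1} := by
    rw [← Ideal.comap_map_eq_self_of_faithfullyFlat (B := Z.presheaf.stalk p)
      (Ideal.span {X.presheaf.germ V (h₂ p) hpV b.1}), Ideal.mem_comap, Ideal.map_span, Set.image_singleton,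
      Ideal.mem_span_singleton']
    exact ⟨_, hgerm.symm⟩
  obtain ⟨c, hc⟩ := Ideal.mem_span_singleton'.mp hmem
  obtain ⟨U', hpU', c', rfl⟩ := X.presheaf.exists_germ_eq c
  refine ⟨U' ⊓ V, ⟨hpU', hpV⟩, X.presheaf.map (homOfLE inf_le_left).op c', ?_⟩
  have hp' : h₂ p ∈ U' ⊓ V := ⟨hpU', hpV⟩
  have he : X.presheaf.map (homOfLE (inf_le_left : U' ⊓ V ≤ U')).op c' *
      X.presheaf.map (homOfLE (inf_le_right : U' ⊓ V ≤ V)).op b.1 =
      X.presheaf.map (homOfLE (inf_le_right : U' ⊓ V ≤ V)).op a := by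
    refine germ_injective_of_isIntegral X (h₂ p) hp' ?_
    rw [map_mul, X.presheaf.germ_res_apply, X.presheaf.germ_res_apply, X.presheaf.germ_res_apply]
    exact hc
  have he' := congrArg (X.evaluation (U' ⊓ V) (genericPoint X) (genericPoint_mem hp')) he
  rw [map_mul, evaluation_res, evaluation_res, evaluation_res, ← hab'] at he'
  rw [evaluation_res]
  refine mul_right_cancel₀ ?_ he'
  intro hb0
  refine nonZeroDivisors.coe_ne_zero b (evaluation_injective hηV ?_)
  rw [hb0, map_zero]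

section Quot

variable {S : Scheme.{u}} {G A Y : Over S} [GrpObj G] [IsIntegral A.left] [IsReduced (G ⊗ A).left]
  {a : AlgGrp.Action G A} [Flat a.act.left] [Flat (snd G A).left]

theorem map_genericPoint {P Q : Scheme.{u}} [IrreducibleSpace P] [IrreducibleSpace Q] (f : P ⟶ Q)
    (hf : Function.Surjective f) : f (genericPoint P) = genericPoint Q := by
  refine ((genericPoint_spec P).image f.continuous).eq ?_
  have : closure (f '' (Set.univ : Set P)) = (Set.univ : Set Q) := by
    rw [Set.image_univ, hf.range_eq, closure_univ]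
  rw [this]
  exact genericPoint_spec Q

/-- Invariant rational functions come from the quotient. -/
theorem exists_of_genEv_eq (π : A ⟶ Y) (hπ : GIT.IsGeomQuot a π) [IrreducibleSpace Y.left]
    (hη : π.left (genericPoint A.left) = genericPoint Y.left)
    (l : A.left.residueField (genericPoint A.left))
    (hl : ∀ ξ, genEv a.act.left ξ l = genEv (snd G A).left ξ l) :
    ∃ c, evAt π.left (genericPoint A.left) _ hη c = l := by
  let D : A.left.Opens := ⟨{x | Reg l x}, isOpen_reg l⟩
  have hsat : π.left ⁻¹' (π.left '' (D : Set A.left)) = (D : Set A.left) := by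
    refine Set.Subset.antisymm ?_ (Set.subset_preimage_image _ _)
    rintro x ⟨x', hx', he⟩
    obtain ⟨w, hw₁, hw₂⟩ := Scheme.Pullback.exists_preimage_pullback (f := π.left) (g := π.left) x x' he.symm
    obtain ⟨p, hp⟩ := hπ.orbit w
    have hfst : GIT.PsiY a π hπ.inv ≫ pullback.fst π.left π.left = a.act.left := pullback.lift_fst _ _ _
    have hsnd : GIT.PsiY a π hπ.inv ≫ pullback.snd π.left π.left = (snd G A).left := pullback.lift_snd _ _ _
    have h1 : a.act.left p = x := by
      rw [← hw₁, ← hp, ← hfst]; rfl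
    have h2 : (snd G A).left p = x' := by
      rw [← hw₂, ← hp, ← hsnd]; rfl
    rw [← h1]
    exact reg_transfer _ _ (fun ξ => (hl ξ).symm) p (by rw [h2]; exact hx')
  have hq : IsQuotientMap π.left := MorphismProperty.universally_le _ _ hπ.subm
  let V : Y.left.Opens := ⟨π.left '' (D : Set A.left), hq.isOpen_preimage.mp (by rw [hsat]; exact D.isOpen)⟩
  have hVD : ∀ x : ↥(π.left ⁻¹ᵁ V), Reg l x.1 := fun x => by
    have := x.2
    exact hsat.subset this
  choose U hxU f hf using hVD
  obtain ⟨t, ht, -⟩ := (A.left.sheaf).existsUnique_gluing'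
    (U := fun x : ↥(π.left ⁻¹ᵁ V) => U x ⊓ π.left ⁻¹ᵁ V) (π.left ⁻¹ᵁ V) (fun x => homOfLE inf_le_right)
    (fun x hx => Opens.mem_iSup.mpr ⟨⟨x, hx⟩, hxU _, hx⟩)
    (fun x => A.left.presheaf.map (homOfLE inf_le_left).op (f x)) (by
      intro x y
      have hη' : genericPoint A.left ∈ (U x ⊓ π.left ⁻¹ᵁ V) ⊓ (U y ⊓ π.left ⁻¹ᵁ V) :=
        ⟨genericPoint_mem (U := U x ⊓ π.left ⁻¹ᵁ V) ⟨hxU x, x.2⟩,
          genericPoint_mem (U := U y ⊓ π.left ⁻¹ᵁ V) ⟨hxU y, y.2⟩⟩
      refine evaluation_injective hη' ?_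
      show A.left.evaluation _ _ hη' (A.left.presheaf.map (homOfLE inf_le_left).op _) =
        A.left.evaluation _ _ hη' (A.left.presheaf.map (homOfLE inf_le_right).op _)
      rw [evaluation_res, evaluation_res, evaluation_res, evaluation_res, hf, hf])
  have hηV : genericPoint A.left ∈ π.left ⁻¹ᵁ V := ⟨_, reg_genericPoint l, rfl⟩
  have htl : A.left.evaluation _ _ hηV t = l := by
    let x : ↥(π.left ⁻¹ᵁ V) := ⟨_, hηV⟩
    have := congrArg (A.left.evaluation (U x ⊓ π.left ⁻¹ᵁ V) _ ⟨hxU x, hηV⟩) (ht x)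
    erw [evaluation_res, evaluation_res, hf] at this
    exact this
  have hinv : GIT.IsInvSection a π V t :=
    section_eq_of_genEv_eq a.act.left (snd G A).left hl t hηV htl t hηV htl inf_le_left inf_le_right
  obtain ⟨v, hv⟩ := (hπ.sections V).2.symm.subset hinv
  have hηV' : genericPoint Y.left ∈ V := by rw [← hη]; exact hηV
  refine ⟨Y.left.evaluation V _ hηV' v, ?_⟩
  rw [← evaluation_appLE π.left (genericPoint A.left) _ hη V hηV' (π.left ⁻¹ᵁ V) le_rfl hηV v,
    π.left.appLE_eq_app, hv, htl]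

end Quot

end GeomQuotSepLib
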