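import Groth.Prelude.Def_W4bk4git07Quot
import Groth.Agent.GeomQuotSepLib.Fixed
import Groth.Agent.GrpShear

/-!
# The cocycle condition on generic points of `G × A`
-/

set_option autoImplicit false
set_option linter.style.haveILetI false
universe u

open CategoryTheory CategoryTheory.Limits MonoidalCategory CartesianMonoidalCategory AlgebraicGeometry Topology
open scoped MonObj TensorProduct

noncomputable section

namespace GeomQuotSepLib

section Points

variable {S : Scheme.{u}} {G A : Over S} [GrpObj G] (a : AlgGrp.Action G A)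

/-- `(g, (h, x)) ↦ (g h, x)`. -/
def mulMap : G ⊗ (G ⊗ A) ⟶ G ⊗ A := lift (fst G (G ⊗ A) * (snd G (G ⊗ A) ≫ fst G A)) (snd G (G ⊗ A) ≫ snd G A)

/-- The point `(g h⁻¹, (h, x))` made from `(g, x)` and `(h, x)`. -/
def build {T : Over S} (p q : T ⟶ G ⊗ A) : T ⟶ G ⊗ (G ⊗ A) := lift ((p ≫ fst G A) * (q ≫ fst G A)⁻¹) q

theorem build_snd {T : Over S} (p q : T ⟶ G ⊗ A) : build p q ≫ snd G (G ⊗ A) = q := lift_snd _ _

theorem build_mulMap {T : Over S} (p q : T ⟶ G ⊗ A) (h : p ≫ snd G A = q ≫ snd G A) :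
    build p q ≫ mulMap = p := by
  refine CartesianMonoidalCategory.hom_ext _ _ ?_ ?_
  · simp only [mulMap, Category.assoc, lift_fst, MonObj.comp_mul]
    simp [build]
  · simp [mulMap, build, h]

theorem build_eta : build (mulMap : G ⊗ (G ⊗ A) ⟶ G ⊗ A) (snd G (G ⊗ A)) = 𝟙 _ := by
  refine CartesianMonoidalCategory.hom_ext _ _ ?_ ?_
  · simp [build, mulMap]
  · simp [build]

theorem comp_build {T T' : Over S} (u : T' ⟶ T) (p q : T ⟶ G ⊗ A) : u ≫ build p q = build (u ≫ p) (u ≫ q) := by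
  simp [build, comp_lift, MonObj.comp_mul, GrpObj.comp_inv]

theorem build_act {T : Over S} (p q : T ⟶ G ⊗ A) (h : p ≫ snd G A = q ≫ snd G A) :
    build p q ≫ (G ◁ a.act) ≫ a.act = p ≫ a.act := by
  have hq : q = lift (q ≫ fst G A) (q ≫ snd G A) := by simp
  have hp : p = lift (p ≫ fst G A) (p ≫ snd G A) := by simp
  rw [build, lift_whiskerLeft_assoc]
  conv_lhs => arg 1; arg 2; rw [hq]
  rw [← GrpShear.lift_mul_act, inv_mul_cancel_right, ← h, ← hp]

theorem build_act_snd {T : Over S} (p q : T ⟶ G ⊗ A) :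
    build p q ≫ (G ◁ a.act) ≫ snd G A = q ≫ a.act := by
  simp [build]

theorem mulMap_snd : (mulMap : G ⊗ (G ⊗ A) ⟶ G ⊗ A) ≫ snd G A = snd G (G ⊗ A) ≫ snd G A := by
  simp [mulMap]

/-- The comparison `G × (G × A) → (G × A) ×_A (G × A)`. -/
def toPair : (G ⊗ (G ⊗ A)).left ⟶ pullback (snd G A).left (snd G A).left :=
  pullback.lift (mulMap : G ⊗ (G ⊗ A) ⟶ G ⊗ A).left (snd G (G ⊗ A)).left
    (by rw [← Over.comp_left, ← Over.comp_left, mulMap_snd])

theorem isIso_toPair : IsIso (toPair (G := G) (A := A)) := by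
  let P := (snd G A).left
  let T : Over S := Over.mk (pullback.fst P P ≫ (G ⊗ A).hom)
  let p : T ⟶ G ⊗ A := Over.homMk (pullback.fst P P) rfl
  let q : T ⟶ G ⊗ A := Over.homMk (pullback.snd P P) (by
    show pullback.snd P P ≫ (G ⊗ A).hom = pullback.fst P P ≫ (G ⊗ A).hom
    rw [← Over.w (snd G A), ← pullback.condition_assoc])
  have hpq : p ≫ snd G A = q ≫ snd G A := Over.OverMorphism.ext pullback.condition
  refine ⟨(build p q).left, ?_, ?_⟩
  · let t : G ⊗ (G ⊗ A) ⟶ T := Over.homMk toPair (by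
      show toPair ≫ pullback.fst P P ≫ (G ⊗ A).hom = _
      rw [toPair, pullback.lift_fst_assoc, Over.w])
    have e₁ : t ≫ p = mulMap := Over.OverMorphism.ext (pullback.lift_fst _ _ _)
    have e₂ : t ≫ q = snd G (G ⊗ A) := Over.OverMorphism.ext (pullback.lift_snd _ _ _)
    show t.left ≫ (build p q).left = _
    rw [← Over.comp_left, comp_build, e₁, e₂, build_eta]
    rfl
  · refine pullback.hom_ext ?_ ?_
    · rw [Category.assoc, toPair, pullback.lift_fst, ← Over.comp_left, build_mulMap p q hpq, Category.id_comp]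
      rfl
    · rw [Category.assoc, toPair, pullback.lift_snd, ← Over.comp_left, build_snd, Category.id_comp]
      rfl

end Points

theorem isPullback_whiskerLeft {S : Scheme.{u}} (T : Over S) {Y Z : Over S} (g : Y ⟶ Z) :
    IsPullback (snd T Y).left (T ◁ g).left g.left (snd T Z).left := by
  refine IsPullback.flip ?_
  show IsPullback (T ◁ g).left (pullback.snd T.hom Y.hom) (pullback.snd T.hom Z.hom) g.left
  refine IsPullback.of_right ?_ ?_ (IsPullback.of_hasPullback T.hom Z.hom)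
  · rw [Over.w g, Over.whiskerLeft_left_fst]
    exact IsPullback.of_hasPullback T.hom Y.hom
  · exact Over.whiskerLeft_left_snd g

theorem isPreimmersion_map {X Y S X' Y' S' : Scheme.{u}} (f : X ⟶ S) (g : Y ⟶ S) (f' : X' ⟶ S') (g' : Y' ⟶ S')
    (i₁ : X ⟶ X') (i₂ : Y ⟶ Y') (i₃ : S ⟶ S') (e₁ : f ≫ i₃ = i₁ ≫ f') (e₂ : g ≫ i₃ = i₂ ≫ g')
    [IsPreimmersion i₁] [IsPreimmersion i₂] [Mono i₃] : IsPreimmersion (pullback.map f g f' g' i₁ i₂ i₃ e₁ e₂) := by
  rw [pullback_map_eq_pullbackFstFstIso_inv]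
  infer_instance

/-- A point of `Spec (E ⊗ E')` at a minimal prime gives a generic point of the self fibre product. -/
theorem pair_generic {X Z : Scheme.{u}} (P : Z ⟶ X) (L E E' Ω : Type u) [Field L] [Field E] [Field E'] [Field Ω]
    [Algebra L E] [Algebra L E'] (i : Spec (.of E) ⟶ Z) (i' : Spec (.of E') ⟶ Z) (j : Spec (.of L) ⟶ X)
    [IsPreimmersion i] [IsPreimmersion i'] [Mono j] {ξ ξ' : Z} (hξ : ξ ∈ genericPoints Z) (hξ' : ξ' ∈ genericPoints Z)
    (hi : Set.range i = {ξ}) (hi' : Set.range i' = {ξ'})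
    (hb : Spec.map (CommRingCat.ofHom (algebraMap L E)) ≫ j = i ≫ P)
    (hb' : Spec.map (CommRingCat.ofHom (algebraMap L E')) ≫ j = i' ≫ P)
    (τ : E ⊗[L] E' →+* Ω) (hτ : RingHom.ker τ ∈ minimalPrimes (E ⊗[L] E')) :
    ∃ h : (Spec.map (CommRingCat.ofHom (τ.comp Algebra.TensorProduct.includeLeftRingHom)) ≫ i) ≫ P =
        (Spec.map (CommRingCat.ofHom (τ.comp (Algebra.TensorProduct.includeRight (R := L) (A := E) (B := E')).toRingHom)) ≫ i') ≫ P,
      (pullback.lift _ _ h : Spec (.of Ω) ⟶ pullback P P) (IsLocalRing.closedPoint Ω) ∈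
        genericPoints ↥(pullback P P) := by
  let b := Spec.map (CommRingCat.ofHom (algebraMap L E))
  let b' := Spec.map (CommRingCat.ofHom (algebraMap L E'))
  let mu := pullback.map b b' P P i i' j hb hb'
  haveI : IsPreimmersion mu := isPreimmersion_map b b' P P i i' j hb hb'
  let ν := (pullbackSpecIso L E E').inv ≫ mu
  haveI : IsPreimmersion ν := IsPreimmersion.comp _ _
  have hn₁ : ν ≫ pullback.fst P P =
      Spec.map (CommRingCat.ofHom Algebra.TensorProduct.includeLeftRingHom) ≫ i := by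
    simp only [ν, Category.assoc, mu, pullback.map, pullback.lift_fst]
    rw [← Category.assoc, pullbackSpecIso_inv_fst]
  have hn₂ : ν ≫ pullback.snd P P =
      Spec.map (CommRingCat.ofHom (Algebra.TensorProduct.includeRight (R := L) (A := E) (B := E')).toRingHom) ≫ i' := by
    simp only [ν, Category.assoc, mu, pullback.map, pullback.lift_snd]
    rw [← Category.assoc, pullbackSpecIso_inv_snd]
    rfl
  have hν₁ : (Spec.map (CommRingCat.ofHom τ) ≫ ν) ≫ pullback.fst P P =
      Spec.map (CommRingCat.ofHom (τ.comp Algebra.TensorProduct.includeLeftRingHom)) ≫ i := by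
    rw [Category.assoc, hn₁, ← Spec.map_comp_assoc, ← CommRingCat.ofHom_comp]
  have hν₂ : (Spec.map (CommRingCat.ofHom τ) ≫ ν) ≫ pullback.snd P P =
      Spec.map (CommRingCat.ofHom (τ.comp (Algebra.TensorProduct.includeRight (R := L) (A := E) (B := E')).toRingHom)) ≫ i' := by
    rw [Category.assoc, hn₂, ← Spec.map_comp_assoc, ← CommRingCat.ofHom_comp]
  refine ⟨by rw [← hν₁, ← hν₂, Category.assoc, Category.assoc (Spec.map _ ≫ ν), pullback.condition], ?_⟩
  have e : ∀ h, (pullback.lift _ _ h : Spec (.of Ω) ⟶ pullback P P) = Spec.map (CommRingCat.ofHom τ) ≫ ν := fun h =>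
    pullback.hom_ext (by rw [pullback.lift_fst, hν₁]) (by rw [pullback.lift_snd, hν₂])
  rw [e]
  let P₀ : ↥(Spec (CommRingCat.of (E ⊗[L] E'))) := Spec.map (CommRingCat.ofHom τ) (IsLocalRing.closedPoint Ω)
  have hP₀ : P₀.asIdeal = RingHom.ker τ := by
    show Ideal.comap τ (IsLocalRing.maximalIdeal Ω) = _
    rw [IsLocalRing.maximalIdeal_eq_bot]
    rfl
  show ν P₀ ∈ _
  refine mem_genericPoints_of_forall fun w hw => ?_
  have hf₁ : pullback.fst P P (ν P₀) = ξ := by
    show (ν ≫ pullback.fst P P) P₀ = ξ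
    rw [hn₁]
    have : i (Spec.map (CommRingCat.ofHom (Algebra.TensorProduct.includeLeftRingHom : E →+* E ⊗[L] E')) P₀) ∈
      Set.range i := ⟨_, rfl⟩
    rw [hi] at this
    exact this
  have hf₂ : pullback.snd P P (ν P₀) = ξ' := by
    show (ν ≫ pullback.snd P P) P₀ = ξ'
    rw [hn₂]
    have : i' (Spec.map (CommRingCat.ofHom
      (Algebra.TensorProduct.includeRight (R := L) (A := E) (B := E')).toRingHom) P₀) ∈ Set.range i' := ⟨_, rfl⟩
    rw [hi'] at this
    exact this
  have g₁ : pullback.fst P P w = ξ :=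
    eq_of_specializes_of_mem_genericPoints hξ (hf₁ ▸ hw.map (pullback.fst P P).continuous)
  have g₂ : pullback.snd P P w = ξ' :=
    eq_of_specializes_of_mem_genericPoints hξ' (hf₂ ▸ hw.map (pullback.snd P P).continuous)
  have hmem : w ∈ Set.range mu := by
    rw [Scheme.Pullback.range_map]
    refine ⟨?_, ?_⟩
    · show pullback.fst P P w ∈ Set.range _
      rw [hi, g₁]; rfl
    · show pullback.snd P P w ∈ Set.range _
      rw [hi', g₂]; rfl
  obtain ⟨v, rfl⟩ := hmem
  let P₁ : ↥(Spec (CommRingCat.of (E ⊗[L] E'))) := (pullbackSpecIso L E E').hom v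
  have hP₁ : ν P₁ = mu v := by
    show ((pullbackSpecIso L E E').hom ≫ (pullbackSpecIso L E E').inv ≫ mu) v = mu v
    rw [Iso.hom_inv_id_assoc]
  rw [← hP₁] at hw ⊢
  have hsp : P₁ ⤳ P₀ := ν.isEmbedding.toIsInducing.specializes_iff.mp hw
  have hle : P₁.asIdeal ≤ P₀.asIdeal := (PrimeSpectrum.le_iff_specializes P₁ P₀).mpr hsp
  exact congrArg ν (PrimeSpectrum.ext (le_antisymm hle (by
    rw [hP₀] at hle ⊢
    exact hτ.2 ⟨P₁.2, bot_le⟩ hle)))

theorem SpecMap_genEv_comp {X Z : Scheme.{u}} [IsIntegral X] (h : Z ⟶ X) [Flat h] (ξ : genericPoints Z)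
    {Ω : CommRingCat.{u}} (r : Z.residueField ξ.1 ⟶ Ω) (u : Spec Ω ⟶ Z)
    (hu : Spec.map r ≫ Z.fromSpecResidueField ξ.1 = u) :
    Spec.map (genEv h ξ ≫ r) ≫ X.fromSpecResidueField (genericPoint X) = u ≫ h := by
  rw [Spec.map_comp, Category.assoc, genEv, evAt_spec, ← Category.assoc, hu]

section Coc

variable {S : Scheme.{u}} {G A : Over S} [GrpObj G] [IsIntegral A.left] (a : AlgGrp.Action G A)
  [Flat a.act.left] [Flat (snd G A).left]

theorem cocycle
    [∀ ξ : genericPoints (G ⊗ A).left,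
      Algebra (A.left.residueField (genericPoint A.left)) ((G ⊗ A).left.residueField ξ.1)]
    (hβ : ∀ ξ : genericPoints (G ⊗ A).left, CommRingCat.ofHom (algebraMap (A.left.residueField (genericPoint A.left))
      ((G ⊗ A).left.residueField ξ.1)) = genEv (snd G A).left ξ)
    (ξ ξ' : genericPoints (G ⊗ A).left) (Ω : Type u) [Field Ω]
    (τ : ((G ⊗ A).left.residueField ξ.1) ⊗[A.left.residueField (genericPoint A.left)]
      ((G ⊗ A).left.residueField ξ'.1) →+* Ω)
    (hτ : RingHom.ker τ ∈ minimalPrimes (((G ⊗ A).left.residueField ξ.1) ⊗[A.left.residueField (genericPoint A.left)]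
      ((G ⊗ A).left.residueField ξ'.1))) :
    ∃ (ρ : genericPoints (G ⊗ A).left) (r : (G ⊗ A).left.residueField ρ.1 →+* Ω),
      (∀ l, r (genEv a.act.left ρ l) = τ (genEv a.act.left ξ l ⊗ₜ 1)) ∧
      ∀ l, r (algebraMap _ _ l) = τ (1 ⊗ₜ genEv a.act.left ξ' l) := by
  have hb : ∀ x : genericPoints (G ⊗ A).left,
      Spec.map (CommRingCat.ofHom (algebraMap (A.left.residueField (genericPoint A.left))
        ((G ⊗ A).left.residueField x.1))) ≫ A.left.fromSpecResidueField (genericPoint A.left) =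
      (G ⊗ A).left.fromSpecResidueField x.1 ≫ (snd G A).left := fun x =>
    (congrArg (fun m => Spec.map m ≫ A.left.fromSpecResidueField (genericPoint A.left)) (hβ x)).trans
      (evAt_spec _ _ _ _)
  let inL : (G ⊗ A).left.residueField ξ.1 →+* ((G ⊗ A).left.residueField ξ.1) ⊗[A.left.residueField (genericPoint A.left)]
      ((G ⊗ A).left.residueField ξ'.1) := Algebra.TensorProduct.includeLeftRingHom
  let inR : (G ⊗ A).left.residueField ξ'.1 →+* ((G ⊗ A).left.residueField ξ.1) ⊗[A.left.residueField (genericPoint A.left)]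
      ((G ⊗ A).left.residueField ξ'.1) :=
    (Algebra.TensorProduct.includeRight (R := A.left.residueField (genericPoint A.left))
      (A := (G ⊗ A).left.residueField ξ.1) (B := (G ⊗ A).left.residueField ξ'.1)).toRingHom
  obtain ⟨hcond, hgen⟩ := pair_generic (snd G A).left (A.left.residueField (genericPoint A.left))
    ((G ⊗ A).left.residueField ξ.1) ((G ⊗ A).left.residueField ξ'.1) Ω
    ((G ⊗ A).left.fromSpecResidueField ξ.1) ((G ⊗ A).left.fromSpecResidueField ξ'.1)
    (A.left.fromSpecResidueField (genericPoint A.left)) ξ.2 ξ'.2 (Scheme.range_fromSpecResidueField _)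
    (Scheme.range_fromSpecResidueField _) (hb ξ) (hb ξ') τ hτ
  let p₁ : Spec (CommRingCat.of Ω) ⟶ (G ⊗ A).left :=
    Spec.map (CommRingCat.ofHom (τ.comp inL)) ≫
      (G ⊗ A).left.fromSpecResidueField ξ.1
  let q₁ : Spec (CommRingCat.of Ω) ⟶ (G ⊗ A).left :=
    Spec.map (CommRingCat.ofHom (τ.comp inR)) ≫ (G ⊗ A).left.fromSpecResidueField ξ'.1
  have hpq₁ : p₁ ≫ (snd G A).left = q₁ ≫ (snd G A).left := hcond
  let T : Over S := Over.mk (p₁ ≫ (G ⊗ A).hom)
  let p : T ⟶ G ⊗ A := Over.homMk p₁ rfl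
  let q : T ⟶ G ⊗ A := Over.homMk q₁ (by
    show q₁ ≫ (G ⊗ A).hom = p₁ ≫ (G ⊗ A).hom
    rw [← Over.w (snd G A), ← Category.assoc, ← Category.assoc, hpq₁])
  have hpq : p ≫ snd G A = q ≫ snd G A := Over.OverMorphism.ext hpq₁
  let t := build p q
  let z : (G ⊗ (G ⊗ A)).left := t.left (IsLocalRing.closedPoint Ω)
  have ht : t.left ≫ toPair = pullback.lift p₁ q₁ hpq₁ := by
    refine pullback.hom_ext ?_ ?_
    · rw [Category.assoc, toPair, pullback.lift_fst, pullback.lift_fst, ← Over.comp_left, build_mulMap p q hpq]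
      rfl
    · rw [Category.assoc, toPair, pullback.lift_snd, pullback.lift_snd, ← Over.comp_left, build_snd]
      rfl
  have hz : z ∈ genericPoints (G ⊗ (G ⊗ A)).left := by
    haveI := isIso_toPair (G := G) (A := A)
    have hz' : toPair z ∈ genericPoints ↥(pullback (snd G A).left (snd G A).left) := by
      have := congrArg (fun m : Spec (CommRingCat.of Ω) ⟶ _ => m (IsLocalRing.closedPoint Ω)) ht
      rw [show toPair z = (t.left ≫ toPair) (IsLocalRing.closedPoint Ω) from rfl]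
      rw [this]
      exact hgen
    refine mem_genericPoints_of_forall fun z' hz'' => ?_
    exact (toPair (G := G) (A := A)).homeomorph.injective
      (eq_of_specializes_of_mem_genericPoints hz' (hz''.map (toPair (G := G) (A := A)).continuous))
  haveI : Flat (G ◁ a.act).left := MorphismProperty.of_isPullback (isPullback_whiskerLeft G a.act) ‹_›
  let ρ : genericPoints (G ⊗ A).left := ⟨(G ◁ a.act).left z, mem_genericPoints_of_flat _ hz⟩
  let r₁ : Spec (CommRingCat.of Ω) ⟶ (G ⊗ A).left := (t ≫ G ◁ a.act).left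
  have hr₁ : ∀ s, r₁ s = ρ.1 := fun s => by
    rw [Subsingleton.elim (α := PrimeSpectrum Ω) s (IsLocalRing.closedPoint Ω)]
    rfl
  let r := ev ρ.1 (Field.toIsField Ω) r₁ hr₁
  have ha₁ : r₁ ≫ a.act.left = p₁ ≫ a.act.left :=
    congrArg CommaMorphism.left ((Category.assoc t (G ◁ a.act) a.act).trans (build_act a p q hpq))
  have ha₂ : r₁ ≫ (snd G A).left = q₁ ≫ a.act.left :=
    congrArg CommaMorphism.left ((Category.assoc t (G ◁ a.act) (snd G A)).trans (build_act_snd a p q))
  have hr : Spec.map r ≫ (G ⊗ A).left.fromSpecResidueField ρ.1 = r₁ := ev_spec ρ.1 _ r₁ hr₁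
  have k₁ : genEv a.act.left ρ ≫ r =
      genEv a.act.left ξ ≫ CommRingCat.ofHom (τ.comp inL) := by
    refine ext_residueField _ ?_
    exact (SpecMap_genEv_comp a.act.left ρ r r₁ hr).trans (ha₁.trans (SpecMap_genEv_comp a.act.left ξ _ p₁ rfl).symm)
  have k₂ : genEv (snd G A).left ρ ≫ r = genEv a.act.left ξ' ≫ CommRingCat.ofHom (τ.comp inR) := by
    refine ext_residueField _ ?_
    exact (SpecMap_genEv_comp (snd G A).left ρ r r₁ hr).trans (ha₂.trans (SpecMap_genEv_comp a.act.left ξ' _ q₁ rfl).symm)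
  refine ⟨ρ, r.hom, fun l => ?_, fun l => ?_⟩
  · exact congrArg (fun m : A.left.residueField (genericPoint A.left) ⟶ _ => m l) k₁
  · rw [← hβ] at k₂
    exact congrArg (fun m : A.left.residueField (genericPoint A.left) ⟶ _ => m l) k₂

end Coc

end GeomQuotSepLib
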