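import Mathlib
import Groth.Agent.GeomRedFieldLib.Scheme
import Groth.Agent.PerfectFieldLib.FormallySmooth

/-!
# Fixed fields of a family of pairs of embeddings

`α ξ, β ξ : L →+* E ξ` model the two maps `act^*, pr^*` from the function field of a variety with a group action into
the function fields of the components of `G × X`.  Under the cocycle hypothesis `hcoc` (associativity of the action)
the extension of `L` over the field of invariants is separable as soon as the `β ξ` are.
-/

set_option autoImplicit false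
set_option linter.style.haveILetI false
universe u

open TensorProduct

noncomputable section

namespace GeomQuotSepLib

variable {F L : Type u} [Field F] [Field L] [Algebra F L]
variable {Ξ : Type u} {E : Ξ → Type u} [∀ ξ, Field (E ξ)] [∀ ξ, Algebra L (E ξ)]

/-- Linear independence of images under `α` for a family linearly independent over the fixed field. -/
theorem linearIndepOn_alpha [Nonempty Ξ] (α : ∀ ξ, L →+* E ξ)
    (hF : ∀ ξ (c : F), α ξ (algebraMap F L c) = algebraMap L (E ξ) (algebraMap F L c))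
    (hfix : ∀ l : L, (∀ ξ, α ξ l = algebraMap L (E ξ) l) → l ∈ Set.range (algebraMap F L))
    [∀ ξ, Algebra.IsGeometricallyReduced L (E ξ)]
    (hcoc : ∀ (ξ ξ' : Ξ) (Ω : Type u) [Field Ω] (τ : E ξ ⊗[L] E ξ' →+* Ω),
      RingHom.ker τ ∈ minimalPrimes (E ξ ⊗[L] E ξ') →
      ∃ (ρ : Ξ) (r : E ρ →+* Ω),
        (∀ l, r (α ρ l) = τ (α ξ l ⊗ₜ 1)) ∧ ∀ l, r (algebraMap L (E ρ) l) = τ (1 ⊗ₜ α ξ' l))
    {ι : Type u} (a : ι → L) (ha : LinearIndependent F a) (s : Finset ι) :
    ∀ w : ι → L, (∀ ξ, ∑ i ∈ s, w i • α ξ (a i) = 0) → ∀ i ∈ s, w i = 0 := by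
  classical
  induction s using Finset.induction_on with
  | empty => intro w _ i hi; simp at hi
  | @insert i0 s hi0 ih =>
    intro w hw
    suffices h0 : w i0 = 0 by
      have : ∀ ξ, ∑ i ∈ s, w i • α ξ (a i) = 0 := fun ξ => by
        simpa [Finset.sum_insert hi0, h0] using hw ξ
      intro i hi
      rcases Finset.mem_insert.mp hi with rfl | hi
      · exact h0
      · exact ih w this i hi
    by_contra h0
    let u : ι → L := fun i => -(w i / w i0)
    have hu : ∀ ξ, α ξ (a i0) = ∑ i ∈ s, algebraMap L (E ξ) (u i) * α ξ (a i) := by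
      intro ξ
      have h := hw ξ
      rw [Finset.sum_insert hi0, Algebra.smul_def] at h
      have h1 : algebraMap L (E ξ) (w i0) ≠ 0 := (map_ne_zero _).mpr h0
      have : α ξ (a i0) = -(algebraMap L (E ξ) (w i0))⁻¹ * ∑ i ∈ s, w i • α ξ (a i) := by
        field_simp
        linear_combination h
      rw [this, Finset.mul_sum]
      refine Finset.sum_congr rfl fun i _ => ?_
      rw [Algebra.smul_def, map_neg, map_div₀]
      ring
    -- the coefficients are invariant
    have hinv : ∀ i ∈ s, ∀ ξ', α ξ' (u i) = algebraMap L (E ξ') (u i) := by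
      intro i hi ξ'
      let v : ι → E ξ' := fun j => α ξ' (u j) - algebraMap L (E ξ') (u j)
      refine sub_eq_zero.mp ((Module.forall_dual_apply_eq_zero_iff L (v i)).mp fun f => ?_)
      refine ih (fun j => f (v j)) (fun ξ => ?_) i hi
      haveI : _root_.IsReduced (E ξ ⊗[L] E ξ') := GeomRedFieldLib.isReduced_tensor_geomRed (E ξ) (E ξ')
      have hz : ∑ j ∈ s, α ξ (a j) ⊗ₜ[L] v j = 0 := by
        rw [← Ideal.mem_bot, ← Ideal.zero_eq_bot, ← nilradical_eq_zero (E ξ ⊗[L] E ξ')]
        rw [nilradical, ← Ideal.sInf_minimalPrimes, Ideal.mem_sInf]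
        intro P hP
        haveI : P.IsPrime := Ideal.minimalPrimes_isPrime hP
        let τ : E ξ ⊗[L] E ξ' →+* P.ResidueField := algebraMap _ _
        have hτ : RingHom.ker τ = P := Ideal.ker_algebraMap_residueField P
        obtain ⟨ρ, r, hr1, hr2⟩ := hcoc ξ ξ' P.ResidueField τ (by rw [hτ]; exact hP)
        rw [← hτ, RingHom.mem_ker]
        have hl : ∀ (l : L) (x : E ξ), (algebraMap L (E ξ) l * x) ⊗ₜ[L] (1 : E ξ') = x ⊗ₜ algebraMap L (E ξ') l := by
          intro l x
          rw [← Algebra.smul_def, TensorProduct.smul_tmul, Algebra.smul_def, mul_one]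
        have h1 : τ (α ξ (a i0) ⊗ₜ 1) = τ (∑ j ∈ s, α ξ (a j) ⊗ₜ algebraMap L (E ξ') (u j)) := by
          rw [hu ξ, TensorProduct.sum_tmul]
          simp only [hl]
        have h2 : τ (α ξ (a i0) ⊗ₜ 1) = τ (∑ j ∈ s, α ξ (a j) ⊗ₜ α ξ' (u j)) := by
          rw [← hr1, hu ρ, map_sum, map_sum]
          refine Finset.sum_congr rfl fun j _ => ?_
          rw [map_mul, hr1, hr2, ← map_mul, Algebra.TensorProduct.tmul_mul_tmul, one_mul, mul_one]
        simp only [v, TensorProduct.tmul_sub, Finset.sum_sub_distrib, map_sub]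
        rw [← h1, ← h2, sub_self]
      have h3 := congrArg (fun z => TensorProduct.rid L (E ξ) (LinearMap.lTensor (E ξ) f z)) hz
      simpa [map_sum] using h3
    have hmem : ∀ i ∈ s, u i ∈ Set.range (algebraMap F L) := fun i hi => hfix _ (hinv i hi)
    choose! c hc using hmem
    obtain ⟨ξ⟩ := ‹Nonempty Ξ›
    have he : a i0 = ∑ i ∈ s, c i • a i := by
      refine (α ξ).injective ?_
      rw [hu ξ, map_sum]
      refine Finset.sum_congr rfl fun i hi => ?_
      rw [Algebra.smul_def, map_mul, hF, hc i hi]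
    refine ha.notMem_span_image (x := i0) (s := (s : Set ι)) (by simpa using hi0) ?_
    rw [he]
    exact Submodule.sum_mem _ fun i hi => Submodule.smul_mem _ _ (Submodule.subset_span ⟨i, hi, rfl⟩)

/-- MacLane's criterion for the extension over the fixed field. -/
theorem linearIndepOn_pow [Nonempty Ξ] (α : ∀ ξ, L →+* E ξ)
    (hF : ∀ ξ (c : F), α ξ (algebraMap F L c) = algebraMap L (E ξ) (algebraMap F L c))
    (hfix : ∀ l : L, (∀ ξ, α ξ l = algebraMap L (E ξ) l) → l ∈ Set.range (algebraMap F L))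
    [∀ ξ, Algebra.IsGeometricallyReduced L (E ξ)]
    (hcoc : ∀ (ξ ξ' : Ξ) (Ω : Type u) [Field Ω] (τ : E ξ ⊗[L] E ξ' →+* Ω),
      RingHom.ker τ ∈ minimalPrimes (E ξ ⊗[L] E ξ') →
      ∃ (ρ : Ξ) (r : E ρ →+* Ω),
        (∀ l, r (α ρ l) = τ (α ξ l ⊗ₜ 1)) ∧ ∀ l, r (algebraMap L (E ρ) l) = τ (1 ⊗ₜ α ξ' l))
    (p : ℕ) [Fact p.Prime] [CharP F p] (s : Finset L) (hs : LinearIndepOn F _root_.id (s : Set L)) :
    LinearIndepOn F (· ^ p) (s : Set L) := by
  classical
  haveI : CharP L p := charP_of_injective_algebraMap (algebraMap F L).injective p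
  rw [LinearIndepOn, Fintype.linearIndependent_iff]
  intro c hc i
  let Lb := AlgebraicClosure L
  choose d hd using fun j : (s : Set L) =>
    IsAlgClosed.exists_pow_nat_eq (algebraMap F Lb (c j)) (Nat.Prime.pos (Fact.out : p.Prime))
  suffices hd0 : d i = 0 by
    have h := hd i
    rw [hd0, zero_pow (Fact.out : p.Prime).ne_zero, eq_comm, map_eq_zero] at h
    exact h
  refine (Module.forall_dual_apply_eq_zero_iff L (d i)).mp fun f => ?_
  refine linearIndepOn_alpha α hF hfix hcoc (fun j : (s : Set L) => (j : L)) hs Finset.univ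
    (fun j => f (d j)) (fun ξ => ?_) i (Finset.mem_univ _)
  haveI : _root_.IsReduced (Lb ⊗[L] E ξ) := (Algebra.isGeometricallyReduced_field_iff L (E ξ)).mp inferInstance
  haveI : Nontrivial (Lb ⊗[L] E ξ) := (Algebra.TensorProduct.includeRight_injective (A := Lb) (B := E ξ)
    (algebraMap L Lb).injective).nontrivial
  haveI : CharP (Lb ⊗[L] E ξ) p := charP_of_injective_algebraMap (algebraMap L (Lb ⊗[L] E ξ)).injective p
  have hz : (∑ j : (s : Set L), d j ⊗ₜ[L] α ξ (j : L)) ^ p = 0 := by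
    rw [sum_pow_char p]
    have e : ∀ j : (s : Set L), (d j ⊗ₜ[L] α ξ (j : L)) ^ p = (1 : Lb) ⊗ₜ[L] α ξ (c j • (j : L) ^ p) := by
      intro j
      rw [Algebra.TensorProduct.tmul_pow, hd j, Algebra.smul_def, map_mul, map_pow, hF,
        ← Algebra.smul_def (algebraMap F L (c j)), ← TensorProduct.smul_tmul, IsScalarTower.algebraMap_apply F L Lb,
        Algebra.algebraMap_eq_smul_one]
    rw [Finset.sum_congr rfl fun j _ => e j, ← TensorProduct.tmul_sum, ← map_sum, hc, map_zero, TensorProduct.tmul_zero]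
  have hz' : ∑ j : (s : Set L), d j ⊗ₜ[L] α ξ (j : L) = 0 := IsNilpotent.eq_zero ⟨p, hz⟩
  have h := congrArg (fun z => TensorProduct.lid L (E ξ) (LinearMap.rTensor (E ξ) f z)) hz'
  simpa [map_sum] using h

/-- The extension over the fixed field is formally smooth. -/
theorem formallySmooth_of_fixed [Nonempty Ξ] [Algebra.EssFiniteType F L] (α : ∀ ξ, L →+* E ξ)
    (hF : ∀ ξ (c : F), α ξ (algebraMap F L c) = algebraMap L (E ξ) (algebraMap F L c))
    (hfix : ∀ l : L, (∀ ξ, α ξ l = algebraMap L (E ξ) l) → l ∈ Set.range (algebraMap F L))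
    [∀ ξ, Algebra.IsGeometricallyReduced L (E ξ)]
    (hcoc : ∀ (ξ ξ' : Ξ) (Ω : Type u) [Field Ω] (τ : E ξ ⊗[L] E ξ' →+* Ω),
      RingHom.ker τ ∈ minimalPrimes (E ξ ⊗[L] E ξ') →
      ∃ (ρ : Ξ) (r : E ρ →+* Ω),
        (∀ l, r (α ρ l) = τ (α ξ l ⊗ₜ 1)) ∧ ∀ l, r (algebraMap L (E ρ) l) = τ (1 ⊗ₜ α ξ' l)) :
    Algebra.FormallySmooth F L := by
  obtain _ | ⟨p, hp, hpk⟩ := CharP.exists' F
  · haveI : PerfectField F := PerfectField.ofCharZero
    exact Groth.Agent.PerfectFieldLib.formallySmooth_of_perfectField F L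
  haveI : Fact p.Prime := hp
  haveI : ExpChar F p := .prime hp.out
  obtain ⟨s, hs, hsep⟩ := exists_isTranscendenceBasis_and_isSeparable_of_linearIndepOn_pow_of_essFiniteType
    (k := F) (K := L) p hp.out (fun s hs => linearIndepOn_pow α hF hfix hcoc p s hs)
  have : Algebra.IsSeparable (↥(IntermediateField.adjoin F (Set.range ((↑) : s → L)))) L := by
    convert! hsep <;> simp
  exact Algebra.FormallySmooth.of_algebraicIndependent_of_isSeparable hs.1

end GeomQuotSepLib
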