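import Groth.Prelude.Def_W4bk4git07Quot
import Groth.Agent.GeomQuotSepLib.Field
import Groth.Agent.GeomQuotSepLib.Cocycle
import Groth.Agent.CohenLib.FSField
import Groth.Agent.AlgSpLib.ReducedSmooth
import Groth.Agent.FlatLib.SmoothScheme

/-!
# Generic smoothness of geometric quotients
-/

set_option autoImplicit false
set_option linter.style.haveILetI false
set_option linter.unusedSectionVars false
universe u

open CategoryTheory CategoryTheory.Limits MonoidalCategory CartesianMonoidalCategory AlgebraicGeometry Topology
open TopologicalSpace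

noncomputable section

namespace GeomQuotSepLib

theorem residue_bijective_of_isField {X : Scheme.{u}} (x : X) (h : IsField (X.presheaf.stalk x)) :
    Function.Bijective (X.residue x) := by
  letI := h.toField
  exact ⟨RingHom.injective _, X.residue_surjective x⟩

theorem isField_stalk_genericPoints {Z : Scheme.{u}} [IsReduced Z] (ξ : genericPoints Z) :
    IsField (Z.presheaf.stalk ξ.1) :=
  isField_stalk_of_closure_mem_irreducibleComponents Z ξ.1 ξ.2

/-- Residue field extensions at points with field local rings of a smooth morphism are formally smooth. -/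
theorem formallySmooth_residueFieldMap {Z X : Scheme.{u}} (h : Z ⟶ X) [Smooth h] (ξ : Z)
    (hZ : IsField (Z.presheaf.stalk ξ)) (hX : IsField (X.presheaf.stalk (h ξ))) :
    (h.residueFieldMap ξ).hom.FormallySmooth := by
  have hs : (h.stalkMap ξ).hom.FormallySmooth :=
    Scheme.Hom.mem_smoothLocus.mp (h.smoothLocus_eq_top.ge (Set.mem_univ ξ))
  haveI : IsIso (X.residue (h ξ)) := (ConcreteCategory.isIso_iff_bijective _).mpr (residue_bijective_of_isField _ hX)
  haveI : IsIso (Z.residue ξ) := (ConcreteCategory.isIso_iff_bijective _).mpr (residue_bijective_of_isField _ hZ)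
  have e : h.residueFieldMap ξ = inv (X.residue (h ξ)) ≫ h.stalkMap ξ ≫ Z.residue ξ := by
    rw [IsIso.eq_inv_comp, Scheme.residue_residueFieldMap]
  rw [e]
  exact (RingHom.FormallySmooth.respectsIso.cancel_left_isIso _ _).mpr
    ((RingHom.FormallySmooth.respectsIso.cancel_right_isIso _ _).mpr hs)

theorem isGeometricallyReduced_of_formallySmooth_hom {L E : Type u} [Field L] [Field E] [Algebra L E]
    (h : (algebraMap L E).FormallySmooth) : Algebra.IsGeometricallyReduced L E := by
  haveI : Algebra.FormallySmooth L E := (RingHom.formallySmooth_algebraMap).mp h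
  exact CohenLib.isGeometricallyReduced_of_formallySmooth

theorem isGeometricallyReduced_genEv {Z X : Scheme.{u}} [IsIntegral X] [IsReduced Z] (h : Z ⟶ X) [Smooth h]
    (ξ : genericPoints Z) :
    letI := (genEv h ξ).hom.toAlgebra
    Algebra.IsGeometricallyReduced (X.residueField (genericPoint X)) (Z.residueField ξ.1) := by
  letI := (genEv h ξ).hom.toAlgebra
  refine isGeometricallyReduced_of_formallySmooth_hom ?_
  have hX : IsField (X.presheaf.stalk (h ξ.1)) := by
    rw [apply_eq_genericPoint h ξ]
    exact Field.toIsField X.functionField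
  have := formallySmooth_residueFieldMap h ξ.1 (isField_stalk_genericPoints ξ) hX
  exact (RingHom.FormallySmooth.respectsIso.cancel_left_isIso (X.residueFieldCongr _).hom _).mpr this

variable {K : Type u} [Field K] {Γ A Y : Over (Spec (CommRingCat.of K))} [GrpObj Γ]

theorem smooth_snd [Smooth Γ.hom] : Smooth (snd Γ A).left :=
  inferInstanceAs (Smooth (pullback.snd Γ.hom A.hom))

theorem smooth_act [Smooth Γ.hom] (a : AlgGrp.Action Γ A) : Smooth a.act.left := by
  haveI : MorphismProperty.RespectsIso (@Smooth : MorphismProperty Scheme.{u}) :=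
    @MorphismProperty.IsStableUnderBaseChange.respectsIso _ _ _ smooth_isStableUnderBaseChange
  exact @GrpShear.act_prop _ _ _ _ a (@Smooth : MorphismProperty Scheme.{u}) smooth_isStableUnderBaseChange _
    (inferInstanceAs (Smooth Γ.hom))

set_option maxHeartbeats 1000000 in
/-- The function field of the variety is formally smooth over the function field of the quotient. -/
theorem formallySmooth_evAt [Smooth Γ.hom] [IsIntegral A.left] [LocallyOfFiniteType A.hom]
    (a : AlgGrp.Action Γ A) (π : A ⟶ Y) (hπ : GIT.IsGeomQuot a π) [IrreducibleSpace Y.left]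
    (hη : π.left (genericPoint A.left) = genericPoint Y.left) :
    (evAt π.left (genericPoint A.left) _ hη).hom.FormallySmooth := by
  haveI : Smooth (snd Γ A).left := smooth_snd
  haveI : Smooth a.act.left := smooth_act a
  haveI : IsReduced (Γ ⊗ A).left := AlgSpLib.isReduced_of_smooth (snd Γ A).left
  let F := Y.left.residueField (genericPoint Y.left)
  let L := A.left.residueField (genericPoint A.left)
  let i : F →+* L := (evAt π.left (genericPoint A.left) _ hη).hom
  letI : Algebra F L := i.toAlgebra
  letI : ∀ ξ : genericPoints (Γ ⊗ A).left, Algebra L ((Γ ⊗ A).left.residueField ξ.1) := fun ξ =>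
    (genEv (snd Γ A).left ξ).hom.toAlgebra
  haveI : ∀ ξ : genericPoints (Γ ⊗ A).left, Algebra.IsGeometricallyReduced L ((Γ ⊗ A).left.residueField ξ.1) :=
    fun ξ => isGeometricallyReduced_genEv (snd Γ A).left ξ
  haveI : Nonempty (genericPoints (Γ ⊗ A).left) := by
    have : Nonempty (Γ ⊗ A).left :=
      ⟨(lift (toUnit A ≫ MonObj.one) (𝟙 A)).left (genericPoint A.left)⟩
    obtain ⟨ξ, -⟩ := exists_genericPoint_mem (T := (Γ ⊗ A).left) isOpen_univ Set.univ_nonempty
    exact ⟨ξ⟩
  haveI : LocallyOfFiniteType π.left := by
    haveI : LocallyOfFiniteType (π.left ≫ Y.hom) := by rw [Over.w π]; infer_instance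
    exact locallyOfFiniteType_of_comp π.left Y.hom
  haveI : Algebra.EssFiniteType F L := by
    have h1 : (π.left.stalkMap (genericPoint A.left)).hom.EssFiniteType := LocallyOfFiniteType.stalkMap π.left _
    have h2 : (evAt π.left (genericPoint A.left) _ hη).hom.EssFiniteType := by
      haveI : IsIso (A.left.residue (genericPoint A.left)) := (ConcreteCategory.isIso_iff_bijective _).mpr
        (residue_bijective_of_isField _ (Field.toIsField A.left.functionField))
      refine (RingHom.EssFiniteType.respectsIso.cancel_left_isIso _ _).mpr ?_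
      refine RingHom.EssFiniteType.of_comp (Y.left.residue (π.left (genericPoint A.left))).hom ?_
      rw [← CommRingCat.hom_comp, Scheme.residue_residueFieldMap]
      exact (RingHom.EssFiniteType.respectsIso.cancel_right_isIso _ _).mpr h1
    exact h2
  have hF : ∀ ξ : genericPoints (Γ ⊗ A).left, ∀ c : F, genEv a.act.left ξ (algebraMap F L c) =
      algebraMap L ((Γ ⊗ A).left.residueField ξ.1) (algebraMap F L c) := by
    intro ξ c
    have e : evAt π.left (genericPoint A.left) _ hη ≫ genEv a.act.left ξ =
        evAt π.left (genericPoint A.left) _ hη ≫ genEv (snd Γ A).left ξ := by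
      refine ext_residueField _ ?_
      simp only [Spec.map_comp, Category.assoc, evAt_spec]
      rw [← Category.assoc, ← Category.assoc, genEv, evAt_spec, genEv, evAt_spec, Category.assoc, Category.assoc,
        hπ.inv.left]
    exact congrArg (fun m : F ⟶ _ => m c) e
  have hfix : ∀ l : L, (∀ ξ : genericPoints (Γ ⊗ A).left, genEv a.act.left ξ l =
      algebraMap L ((Γ ⊗ A).left.residueField ξ.1) l) → l ∈ Set.range (algebraMap F L) := fun l hl => by
    obtain ⟨c, hc⟩ := exists_of_genEv_eq π hπ hη l hl
    exact ⟨c, hc⟩
  have hβ : ∀ ξ : genericPoints (Γ ⊗ A).left,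
      CommRingCat.ofHom (algebraMap L ((Γ ⊗ A).left.residueField ξ.1)) = genEv (snd Γ A).left ξ := fun _ => rfl
  have hcoc := cocycle a hβ
  have hfs : Algebra.FormallySmooth F L := formallySmooth_of_fixed
    (F := F) (L := L) (E := fun ξ : genericPoints (Γ ⊗ A).left => (Γ ⊗ A).left.residueField ξ.1)
    (fun ξ => (genEv a.act.left ξ).hom) hF hfix
    (fun ξ ξ' Ω _ τ hτ => by
      obtain ⟨ρ, r, h1, h2⟩ := hcoc ξ ξ' Ω τ hτ
      refine ⟨ρ, r, ?_, ?_⟩
      · exact h1
      · exact h2)
  exact (RingHom.formallySmooth_algebraMap (R := F) (S := L)).mpr hfs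

/-- The generic fibre of a geometric quotient is smooth. -/
theorem smooth_genericFibre [Smooth Γ.hom] [IsIntegral A.left] [LocallyOfFiniteType A.hom]
    (a : AlgGrp.Action Γ A) (π : A ⟶ Y) (hπ : GIT.IsGeomQuot a π) [IrreducibleSpace Y.left] :
    Smooth (π.left.fiberToSpecResidueField (genericPoint Y.left)) := by
  haveI : Smooth (snd Γ A).left := smooth_snd
  haveI : Smooth a.act.left := smooth_act a
  haveI : LocallyOfFiniteType π.left := by
    haveI : LocallyOfFiniteType (π.left ≫ Y.hom) := by rw [Over.w π]; infer_instance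
    exact locallyOfFiniteType_of_comp π.left Y.hom
  have hη : π.left (genericPoint A.left) = genericPoint Y.left := map_genericPoint π.left hπ.surj
  let ι := π.left.fiberι (genericPoint Y.left)
  let f := π.left.fiberToSpecResidueField (genericPoint Y.left)
  haveI : LocallyOfFiniteType f := inferInstanceAs (LocallyOfFiniteType (pullback.snd π.left (Y.left.fromSpecResidueField _)))
  haveI : LocallyOfFinitePresentation f := LocallyOfFinitePresentation.iff_locallyOfFiniteType.mpr ‹_›
  have sq : ι ≫ π.left = f ≫ Y.left.fromSpecResidueField _ := pullback.condition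
  obtain ⟨x₀, hx₀⟩ : genericPoint A.left ∈ Set.range ι := by
    rw [Scheme.Hom.range_fiberι]; exact hη
  have hsm : x₀ ∈ f.smoothLocus := by
    have hfs := formallySmooth_evAt a π hπ hη
    letI : Field (A.left.presheaf.stalk (genericPoint A.left)) := inferInstanceAs (Field A.left.functionField)
    have hbij : Function.Bijective (ι.stalkMap x₀) := by
      refine ⟨?_, ι.stalkMap_surjective x₀⟩
      have hA : IsField (A.left.presheaf.stalk (ι x₀)) := by rw [hx₀]; exact Field.toIsField A.left.functionField
      letI := hA.toField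
      exact RingHom.injective _
    have hA : IsField (A.left.presheaf.stalk (ι x₀)) := by rw [hx₀]; exact Field.toIsField A.left.functionField
    have hF₀ : IsField ((π.left.fiber (genericPoint Y.left)).presheaf.stalk x₀) :=
      (RingEquiv.ofBijective _ hbij).symm.toMulEquiv.isField hA
    haveI : IsIso (ι.residueFieldMap x₀) := by
      refine (ConcreteCategory.isIso_iff_bijective _).mpr ⟨RingHom.injective _, fun y => ?_⟩
      obtain ⟨y, rfl⟩ := (π.left.fiber _).residue_surjective x₀ y
      obtain ⟨y, rfl⟩ := hbij.2 y
      exact ⟨A.left.residue _ y, congrArg (fun m => m y) (Scheme.residue_residueFieldMap ι x₀)⟩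
    let pt := f x₀
    have hpt : IsField ((Spec (Y.left.residueField (genericPoint Y.left))).presheaf.stalk pt) :=
      isField_stalk_genericPoints ⟨pt, mem_genericPoints_of_forall fun y _ =>
        Subsingleton.elim (α := PrimeSpectrum (Y.left.residueField (genericPoint Y.left))) y pt⟩
    haveI : IsIso ((π.left.fiber (genericPoint Y.left)).residue x₀) :=
      (ConcreteCategory.isIso_iff_bijective _).mpr (residue_bijective_of_isField _ hF₀)
    let j := (Spec (Y.left.residueField (genericPoint Y.left))).residue (f x₀)
    haveI : IsIso j := (ConcreteCategory.isIso_iff_bijective _).mpr (residue_bijective_of_isField _ hpt)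
    let c := evAt (Y.left.fromSpecResidueField (genericPoint Y.left)) (f x₀) _
      (Scheme.fromSpecResidueField_apply _ _)
    haveI : IsIso c := by
      haveI : IsIso ((Y.left.fromSpecResidueField (genericPoint Y.left)).residueFieldMap (f x₀)) := by
        refine (ConcreteCategory.isIso_iff_bijective _).mpr ⟨RingHom.injective _, fun y => ?_⟩
        obtain ⟨y, rfl⟩ := (Spec (Y.left.residueField (genericPoint Y.left))).residue_surjective (f x₀) y
        obtain ⟨y, rfl⟩ := (Y.left.fromSpecResidueField (genericPoint Y.left)).stalkMap_surjective (f x₀) y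
        exact ⟨Y.left.residue _ y, congrArg (fun m => m y) (Scheme.residue_residueFieldMap _ (f x₀))⟩
      exact inferInstanceAs (IsIso (_ ≫ (Y.left.fromSpecResidueField (genericPoint Y.left)).residueFieldMap (f x₀)))
    have key : c ≫ f.residueFieldMap x₀ =
        evAt π.left (genericPoint A.left) _ hη ≫ evAt ι x₀ _ hx₀ := by
      refine ext_residueField _ ?_
      simp only [Spec.map_comp, Category.assoc, c, evAt_spec]
      rw [reassoc_of% evAt_spec ι x₀ _ hx₀, Scheme.Hom.SpecMap_residueFieldMap_fromSpecResidueField_assoc]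
      rw [sq]
    rw [Scheme.Hom.mem_smoothLocus]
    haveI : IsIso (evAt ι x₀ (genericPoint A.left) hx₀) := inferInstanceAs (IsIso (_ ≫ ι.residueFieldMap x₀))
    have h1 : (f.residueFieldMap x₀).hom.FormallySmooth := by
      refine (RingHom.FormallySmooth.respectsIso.cancel_left_isIso c _).mp ?_
      rw [← CommRingCat.hom_comp, key, CommRingCat.hom_comp]
      exact (RingHom.FormallySmooth.respectsIso.cancel_right_isIso _
        (evAt ι x₀ _ hx₀)).mpr hfs
    have e : f.stalkMap x₀ = j ≫ f.residueFieldMap x₀ ≫ inv ((π.left.fiber (genericPoint Y.left)).residue x₀) := by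
      rw [← Category.assoc, Scheme.residue_residueFieldMap, Category.assoc, IsIso.hom_inv_id, Category.comp_id]
    rw [e]
    exact (RingHom.FormallySmooth.respectsIso.cancel_left_isIso _ _).mpr
      ((RingHom.FormallySmooth.respectsIso.cancel_right_isIso _ _).mpr h1)
  -- translation
  let P' := pullback.snd (snd Γ A).left ι
  let Z' := pullback (snd Γ A).left ι
  have hcond : (pullback.fst (snd Γ A).left ι ≫ a.act.left) ≫ π.left =
      (P' ≫ f) ≫ Y.left.fromSpecResidueField (genericPoint Y.left) := by
    rw [Category.assoc, Category.assoc, ← sq, hπ.inv.left, pullback.condition_assoc]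
  let act' : Z' ⟶ π.left.fiber (genericPoint Y.left) := pullback.lift _ _ hcond
  have sq' : IsPullback (pullback.fst (snd Γ A).left ι) act' a.act.left ι := by
    refine IsPullback.of_bot (v₂₁ := f) ?_ (pullback.lift_fst _ _ _).symm (IsPullback.of_hasPullback π.left _)
    rw [hπ.inv.left, show act' ≫ f = P' ≫ f from pullback.lift_snd _ _ _]
    exact (IsPullback.of_hasPullback (snd Γ A).left ι).paste_vert (IsPullback.of_hasPullback π.left _)
  haveI : Smooth act' := MorphismProperty.of_isPullback sq' ‹_›
  let W := P' ⁻¹ᵁ f.smoothLocus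
  haveI : Smooth (f.smoothLocus.ι ≫ f) := by
    rw [← Scheme.Hom.smoothLocus_eq_top_iff, ← Scheme.Hom.preimage_smoothLocus_eq]
    exact Scheme.Opens.ι_preimage_self _
  haveI : Surjective (W.ι ≫ act') := by
    refine ⟨fun x => ?_⟩
    obtain ⟨w, hw₁, hw₂⟩ := Scheme.Pullback.exists_preimage_pullback (f := π.left) (g := π.left)
      (ι x) (genericPoint A.left) (by
        rw [hη]
        have : ι x ∈ Set.range ι := ⟨x, rfl⟩
        rw [Scheme.Hom.range_fiberι] at this
        exact this)
    obtain ⟨p, hp⟩ := hπ.orbit w
    have hfst : GIT.PsiY a π hπ.inv ≫ pullback.fst π.left π.left = a.act.left := pullback.lift_fst _ _ _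
    have hsnd : GIT.PsiY a π hπ.inv ≫ pullback.snd π.left π.left = (snd Γ A).left := pullback.lift_snd _ _ _
    have h1 : a.act.left p = ι x := by rw [← hw₁, ← hp, ← hfst]; rfl
    have h2 : (snd Γ A).left p = ι x₀ := by rw [hx₀, ← hw₂, ← hp, ← hsnd]; rfl
    obtain ⟨z, hz₁, hz₂⟩ := Scheme.Pullback.exists_preimage_pullback (f := (snd Γ A).left) (g := ι) p x₀ h2
    refine ⟨⟨z, show P' z ∈ f.smoothLocus by rw [hz₂]; exact hsm⟩, ι.isEmbedding.injective ?_⟩
    have e : act' ≫ ι = pullback.fst (snd Γ A).left ι ≫ a.act.left := pullback.lift_fst _ _ _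
    rw [← h1, ← hz₁]
    exact congrArg (fun m : Z' ⟶ A.left => m z) e
  haveI : Smooth ((W.ι ≫ act') ≫ f) := by
    rw [Category.assoc, show act' ≫ f = P' ≫ f from pullback.lift_snd _ _ _, ← morphismRestrict_ι_assoc]
    infer_instance
  exact FlatLib.smooth_of_fppf_comp (W.ι ≫ act') f

end GeomQuotSepLib
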